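import Cfsg.Agent.H5.Ch.B

/-! Point stabilisers as permutation groups; imprimitive point stabilisers of 2-transitive groups. -/

set_option autoImplicit false
set_option linter.unusedVariables false
set_option linter.unusedSectionVars false

namespace Cfsg.Agent.H6.Ch

open Subgroup Equiv MulAction H5.Ch Pointwise

variable {α β ι : Type}

/-- a Jordan set cannot have the size of the classes of a system kept by a point stabiliser -/
theorem jb [Finite α] (G : Subgroup (Perm α)) [hp : IsPreprimitive G α] (a : α) (c : α → ι) (b : ℕ)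
    (inv : ∀ g ∈ G, g a = a → ∀ u v, c u = c v → c (g u) = c (g v))
    (cb : ∀ u, u ≠ a → {w | c w = c u}.ncard = b) (b2 : 2 ≤ b) (bn : 2 * b ≤ Nat.card α)
    {B : Set α} (hB : B.ncard = b)
    (J : ∀ u ∈ B, ∀ v ∈ B, ∃ g ∈ G, (∀ w ∉ B, g w = w) ∧ g u = v) : False := by
  have cl : ∀ g : G, a ∉ g • B → ∀ u ∈ g • B, g • B = {w | c w = c u} := fun g ha u hu => by
    have e : (g • B).ncard = {w | c w = c u}.ncard := by
      rw [Set.ncard_smul_set, hB, cb u fun e => ha (e ▸ hu)]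
    refine Set.eq_of_subset_of_ncard_le (fun v hv => by_contra fun hc => ?_) e.ge
    obtain ⟨w, hw, hw'⟩ : ∃ w, c w = c u ∧ w ∉ g • B := by
      by_contra! h
      exact hc ((Set.eq_of_subset_of_ncard_le (s := {w | c w = c u}) h e.le).ge hv)
    rw [Set.mem_smul_set_iff_inv_smul_mem] at ha hu hv hw'
    obtain ⟨k, hk, k1, k2⟩ := J _ hu _ hv
    have := inv (g.1 * k * g.1⁻¹) (G.mul_mem (G.mul_mem g.2 hk) (G.inv_mem g.2))
      (by simpa [Perm.eq_inv_iff_eq, Subgroup.smul_def] using congrArg g.1 (k1 _ ha)) w u hw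
    have h1 : g.1 (k (g.1⁻¹ w)) = w := by simpa [Subgroup.smul_def] using congrArg g.1 (k1 _ hw')
    have h2 : g.1 (k (g.1⁻¹ u)) = v := by simpa [Subgroup.smul_def] using congrArg g.1 k2
    simp only [Perm.mul_apply, h1, h2] at this
    exact hc (this.symm.trans hw)
  have blk : IsBlock G B := isBlock_iff_smul_eq_of_nonempty.2 fun g ⟨x, h1, h2⟩ => by
    obtain ⟨z, hz⟩ : ∃ z, z ∉ g • B ∪ B := by
      by_contra! h
      have e := Set.ncard_union_add_ncard_inter (g • B) B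
      rw [Set.eq_univ_of_forall h, Set.ncard_univ, Set.ncard_smul_set, hB] at e
      have := (Set.ncard_pos (s := g • B ∩ B)).2 ⟨x, h1, h2⟩
      omega
    obtain ⟨k, rfl⟩ := exists_smul_eq G z a
    have e1 := cl (k * g) (by simpa [mul_smul] using fun h => hz (Or.inl h)) (k • x) (by simpa [mul_smul])
    have e2 := cl k (by simpa using fun h => hz (Or.inr h)) (k • x) (by simpa)
    rw [← e2, mul_smul] at e1
    exact smul_left_cancel k e1
  rcases hp.isTrivialBlock_of_isBlock blk with h | h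
  · have := (Set.ncard_le_one_iff_subsingleton (s := B)).2 h
    omega
  · rw [h, Set.ncard_univ] at hB
    omega

section
variable [Finite β] {H : Subgroup (Perm β)} {r : Setoid β}

theorem sz [IsPretransitive H β] (h : H ≤ stab r) (u v : β) : {w | r w u}.ncard = {w | r w v}.ncard := by
  obtain ⟨g, rfl⟩ := exists_smul_eq H u v
  rw [← Set.ncard_smul_set g]
  congr 1
  ext w
  rw [Set.mem_smul_set_iff_inv_smul_mem]
  simpa [Subgroup.smul_def] using (h g.2 (g.1⁻¹ w) u).symm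

theorem ex_setoid [IsPretransitive H β] (np : ¬ IsPreprimitive H β) :
    ∃ r : Setoid β, H ≤ stab r ∧ (∃ x y, x ≠ y ∧ r x y) ∧ ∃ x z, ¬ r x z := by
  obtain ⟨B, hB, hT⟩ : ∃ B : Set β, IsBlock H B ∧ ¬ IsTrivialBlock B := by
    by_contra! c
    exact np ⟨fun h => c _ h⟩
  rw [IsTrivialBlock, not_or, Set.not_subsingleton_iff, ← Ne, Set.ne_univ_iff_exists_notMem] at hT
  obtain ⟨⟨x, hx, y, hy, hxy⟩, z, hz⟩ := hT
  have bl : ∀ x ∈ B, ∀ y ∈ B, ∀ g : H, g • x ∈ B → g • y ∈ B := fun x hx y hy g h =>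
    hB.smul_eq_of_mem hx h ▸ Set.smul_mem_smul_set hy
  refine ⟨Setoid.ker fun (x : β) (g : H) => g • x ∈ B, fun σ hσ x y => ⟨fun e => funext fun g => by
    simpa [mul_smul, Subgroup.smul_def] using congrFun e (g * ⟨σ, hσ⟩⁻¹),
    fun e => funext fun g => congrFun e (g * ⟨σ, hσ⟩)⟩,
    ⟨x, y, hxy, funext fun g => propext ⟨bl x hx y hy g, bl y hy x hx g⟩⟩, x, z, fun e => hz ?_⟩
  simpa [hx] using congrFun e 1

/-- the orbits of the elements supported in one class -/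
def sub (h : H ≤ stab r) : Setoid β where
  r u v := r u v ∧ ∃ g ∈ H, (∀ w, ¬ r w u → g w = w) ∧ g u = v
  iseqv := ⟨fun u => ⟨r.refl u, 1, H.one_mem, fun _ _ => rfl, rfl⟩,
    fun ⟨e, g, hg, h1, h2⟩ => ⟨r.symm e, g⁻¹, H.inv_mem hg, fun w hw =>
      Perm.inv_eq_iff_eq.2 (h1 w fun k => hw (r.trans k e)).symm, Perm.inv_eq_iff_eq.2 h2.symm⟩,
    fun ⟨e, g, hg, h1, h2⟩ ⟨e', g', hg', h1', h2'⟩ => ⟨r.trans e e', g' * g, H.mul_mem hg' hg, fun w hw => by
      rw [Perm.mul_apply, h1 w hw, h1' w fun k => hw (r.trans k (r.symm e))], by rw [Perm.mul_apply, h2, h2']⟩⟩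

theorem sub_stab (h : H ≤ stab r) : H ≤ stab (sub h) := by
  have : ∀ σ ∈ H, ∀ x y, sub h x y → sub h (σ x) (σ y) := fun σ hσ x y ⟨e, g, hg, h1, h2⟩ =>
    ⟨(h hσ x y).2 e, σ * g * σ⁻¹, H.mul_mem (H.mul_mem hσ hg) (H.inv_mem hσ), fun w hw => by
      rw [Perm.mul_apply, Perm.mul_apply, h1 (σ⁻¹ w) fun k => hw (by simpa using (h hσ _ _).2 k)]; simp,
      by simp [h2]⟩
  exact fun σ hσ x y => ⟨fun e => by simpa using this _ (H.inv_mem hσ) _ _ e, this σ hσ x y⟩

theorem ex_min [IsPretransitive H β] (np : ¬ IsPreprimitive H β) :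
    ∃ r : Setoid β, H ≤ stab r ∧ (∃ x y, x ≠ y ∧ r x y) ∧ (∃ x z, ¬ r x z) ∧
      ∀ u, ∀ g ∈ H, g ≠ 1 → (∀ w, ¬ r w u → g w = w) →
        ∀ x y, r x u → r y u → ∃ g ∈ H, (∀ w, ¬ r w u → g w = w) ∧ g x = y := by
  classical
  obtain ⟨r0, h0⟩ := ex_setoid np
  obtain ⟨u0, -⟩ := h0.2.1
  have ex : ∃ n, ∃ r : Setoid β, (H ≤ stab r ∧ (∃ x y, x ≠ y ∧ r x y) ∧ ∃ x z, ¬ r x z) ∧
      {w | r w u0}.ncard = n := ⟨_, r0, h0, rfl⟩
  obtain ⟨r, ⟨h, h1, x, z, h2⟩, e⟩ := Nat.find_spec ex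
  refine ⟨r, h, h1, ⟨x, z, h2⟩, fun u g hg g1 gs x' y hx hy => ?_⟩
  obtain ⟨v, hv⟩ : ∃ v, g v ≠ v := by
    by_contra! k
    exact g1 (Equiv.ext k)
  have rv : r v u := by_contra fun k => hv (gs v k)
  have rg : r (g v) u := by_contra fun k => hv (g.injective (gs _ k))
  have le := Nat.find_min' ex ⟨sub h, ⟨sub_stab h, ⟨v, g v, hv.symm, r.trans rv (r.symm rg), g, hg,
    fun w hw => gs w fun k => hw (r.trans k (r.symm rv)), rfl⟩, x, z, fun k => h2 k.1⟩, rfl⟩
  rw [← e, sz h u0 y, sz (sub_stab h) u0 y] at le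
  obtain ⟨-, k, hk, k1, k2⟩ : sub h x' y := (Set.eq_of_subset_of_ncard_le (s := {w | sub h w y})
    (t := {w | r w y}) (fun w hw => hw.1) le).ge (r.trans hx (r.symm hy))
  exact ⟨k, hk, fun w hw => k1 w fun j => hw (r.trans j hx), k2⟩

/-- the bound from a system of imprimitivity -/
theorem bd (h : H ≤ stab r) {b e : ℕ} (hb : ∀ u, {w | r w u}.ncard = b) (J : Set (Quotient r))
    (he : Jᶜ.ncard = e) (hJ : ∀ g ∈ H, (∀ w, Quotient.mk r w ∉ J → g w = w) → g = 1) :
    L H ≤ LS (Quotient r) + e * LS (Fin b) ∧ Nat.card H ∣ b.factorial ^ e * (Nat.card (Quotient r)).factorial := by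
  classical
  let ψ : H →* Perm (Quotient r) :=
    { toFun := fun σ => Quotient.congr σ.1 fun x y => (h σ.2 x y).symm
      map_one' := by ext ⟨x⟩; rfl
      map_mul' := fun _ _ => by ext ⟨x⟩; rfl }
  have k : ∀ σ : ψ.ker, ∀ x, Quotient.mk r (σ.1.1 x) = Quotient.mk r x := fun σ x =>
    congrArg (fun u : Perm (Quotient r) => u (Quotient.mk r x)) σ.2
  let φ : ψ.ker →* ∀ i : ↥Jᶜ, Perm {x // Quotient.mk r x = i} :=
    { toFun := fun σ i => σ.1.1.subtypePerm fun x => by rw [k σ x]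
      map_one' := by ext; rfl
      map_mul' := fun _ _ => by ext; rfl }
  have inj : Function.Injective φ := (injective_iff_map_eq_one φ).2 fun σ e =>
    Subtype.ext (Subtype.ext (hJ _ σ.1.2 fun w hw =>
      congrArg (fun u : ∀ i : ↥Jᶜ, Perm {x // Quotient.mk r x = i} => (u ⟨_, hw⟩ ⟨w, rfl⟩).1) e))
  have cb : ∀ i, Nat.card {x // Quotient.mk r x = i} = b := by
    rintro ⟨u⟩
    rw [← hb u]
    exact Nat.card_congr (Equiv.subtypeEquivRight fun w => Quotient.eq)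
  have := Fintype.ofFinite ↥Jᶜ
  have ce : Fintype.card ↥Jᶜ = e := by rw [← he, ← Nat.card_eq_fintype_card]; rfl
  constructor
  · have h1 := L_hom_sub ψ
    have h2 := (L_le_of_inj inj).trans L_pi
    have h3 := L_mono (le_top (a := ψ.range))
    rw [L_map_inj H.subtype_injective] at h1
    rw [Finset.sum_congr rfl fun i _ => LS_congr (β := Fin b) (by rw [cb, Nat.card_fin]), Finset.sum_const,
      Finset.card_univ, ce, smul_eq_mul] at h2
    exact h1.trans (by rw [add_comm]; exact add_le_add h3 h2)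
  · rw [← ψ.ker.card_mul_index, index_ker]
    refine mul_dvd_mul ?_ ?_
    · simpa [Nat.card_pi, Nat.card_perm, cb, ce] using card_dvd_of_injective φ inj
    · simpa [Nat.card_perm] using card_subgroup_dvd_card ψ.range

end

end Cfsg.Agent.H6.Ch
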